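/-
Project NP: reduction to the setting `St`.
-/
import Cfsg.Agent.NP.Defs
import Cfsg.Agent.S4700
import Cfsg.Agent.S4343
import Cfsg.Agent.Inv.BRMain
import Cfsg.Agent.Blk.LThreeB

set_option autoImplicit false

namespace CL.NP

open Finset CL.Inv.PO CL.Blk CL.Char Cfsg Subgroup
open scoped Classical

universe u

theorem setup_ar {p r h u : ℕ} (hp : 2 ≤ p) (hr : 1 + r * p < p ^ 2) (hh : 0 < h) (hu : 0 < u)
    (e : r * (u + 1) = h * u * p + u ^ 2 + u + h) :
    ∃ a b : ℕ, a * b + 1 = p ∧ 2 ≤ b ∧ b ≤ a ∧ 1 + r * p = (p - a) * (p + b) := by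
  have hrp : r < p := by
    by_contra h1
    have : p * p ≤ r * p := Nat.mul_le_mul_right _ (by omega)
    nlinarith
  have h1 : h = 1 := by
    by_contra h1
    have h2 : 2 * u * p ≤ h * u * p := Nat.mul_le_mul_right _ (Nat.mul_le_mul_right _ (by omega))
    have h3 : r * (u + 1) ≤ p * (u + 1) := Nat.mul_le_mul_right _ hrp.le
    have h4 : p ≤ u * p := Nat.le_mul_of_pos_left _ hu
    nlinarith
  subst h1
  have h2 : r < p + u := by omega
  obtain ⟨a, ha⟩ : ∃ a, p + u = r + a := ⟨p + u - r, by omega⟩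
  have h3 : a * (u + 1) + 1 = p := by
    have : (r + a) * (u + 1) = (p + u) * (u + 1) := by rw [ha]
    nlinarith
  have h4 : a ≤ p := by nlinarith
  refine ⟨a, u + 1, h3, by omega, by omega, ?_⟩
  obtain ⟨A, hA⟩ := Nat.exists_eq_add_of_le h4
  have h5 : p - a = A := by omega
  have h6 : r = A + u := by omega
  rw [h5, h6]
  have h7 : A = a * u + 1 := by nlinarith
  have h8 : p = A + a := by omega
  have : 1 + u * p = A * (u + 1) := by rw [h8]; nlinarith
  nlinarith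

theorem setup {G : Type u} [Group G] [Fintype G] [IsSimpleGroup G] (hG : ¬ IsMulCommutative G)
    (p : ℕ) [hp : Fact p.Prime] (hd : p ∣ Nat.card G) (hn : Nat.card (Sylow p G) < p ^ 2) :
    Lst G p ∨ Nonempty (St G p) := by
  have hperf : commutator G = ⊤ :=
    (IsSimpleGroup.eq_bot_or_eq_top_of_normal _ inferInstance).resolve_left fun e =>
      hG ⟨⟨fun a b => commutatorElement_eq_one_iff_mul_comm.1
        (mem_bot.1 (e ▸ commutator_mem_commutator (mem_top a) (mem_top b)))⟩⟩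
  have hc : ∀ Q : Sylow p G, Nat.card Q = p := Cfsg.Agent.S4343.result hG p hd hn
  obtain ⟨P⟩ : Nonempty (Sylow p G) := inferInstance
  obtain ⟨x, hx, ⟨K⟩⟩ := exists_ctx_of_sylow P (hc P)
  obtain ⟨M, hM⟩ := exists_isPModular' hp.out
  obtain ⟨D, h1, s1⟩ := K.exists_data_principal hM
  obtain ⟨r, hr⟩ := K.exists_index_N
  have hs := K.card_sylow
  have core : pPrimeCore p G = ⊥ :=
    (IsSimpleGroup.eq_bot_or_eq_top_of_normal _ inferInstance).resolve_right fun e =>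
      CL.Grp.not_dvd_card_pPrimeCore p G (by rw [e, card_top]; exact hd)
  have eq : G ≃* G ⧸ pPrimeCore p G :=
    ((QuotientGroup.quotientMulEquivOfEq core).trans QuotientGroup.quotientBot).symm
  rcases Cfsg.Agent.S4700.result hperf p P (hc P) r (hs.trans hr) with
    ⟨F, _, _, hF, -, ⟨e⟩⟩ | ⟨m, F, _, _, hF, hm, h3, ⟨e⟩⟩ | ⟨h, u, hh, hu, e⟩
  · exact .inl (.inl ⟨F, _, _, hF, ⟨eq.trans e⟩⟩)
  · obtain ⟨e'⟩ := nonempty_psl2_equiv_sl2 hF
    exact .inl (.inr (.inr (.inl ⟨h3, ⟨m, hm⟩, F, _, _, by omega, ⟨(eq.trans e).trans e'.symm⟩⟩)))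
  · obtain ⟨a, b, hab, hb, hba, hi⟩ := setup_ar hp.out.two_le (by rwa [← hr, ← hs]) hh hu e
    have h5 : 5 ≤ p := by nlinarith
    exact .inr ⟨⟨x, _, K, _, D, h1, s1, ⟨inferInstance, hperf, h5, hc, hn,
      CL.Inv.card_sylow_ne_one_of_simple hG hd⟩, a, b, hab, hb, hba, hr.trans hi⟩⟩

/-- trivial intersection of the centralizers from the study of a maximal intersection -/
theorem k1_of {G : Type u} [Group G] [Finite G] {p : ℕ} [Fact p.Prime]
    (h : ∀ D : Subgroup G, ¬ Mx p D) : K1 G p := by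
  intro P Q hPQ
  by_contra hne
  have : Nonempty {z : Sylow p G × Sylow p G // z.1 ≠ z.2} := ⟨⟨(P, Q), hPQ⟩⟩
  obtain ⟨⟨⟨P', Q'⟩, hne'⟩, hm⟩ := Finite.exists_max
    fun z : {z : Sylow p G × Sylow p G // z.1 ≠ z.2} => Nat.card (CQ z.1.1 ⊓ CQ z.1.2 : Subgroup G)
  refine h (CQ P' ⊓ CQ Q') ⟨fun e => hne ?_, ⟨P', Q', hne', rfl⟩, fun A B hAB => hm ⟨(A, B), hAB⟩⟩
  have h1 := hm ⟨(P, Q), hPQ⟩
  simp only [e, card_bot] at h1
  exact card_le_one_iff_eq_bot _ |>.1 h1

theorem lst_of_b {G : Type u} [Group G] [Fintype G] {p : ℕ} [Fact p.Prime] (S : St G p)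
    (h : S.F2) (hb : S.b = 3) : Lst G p := by
  have := S.gh.simple
  have hp : p = 13 := by rw [h.hp, hb]; norm_num
  have hG : Nat.card G = 5616 := by rw [h.card, hb, hp]; norm_num
  exact .inr (.inl ⟨hp, ZMod 3, inferInstance, inferInstance, ZMod.card 3,
    CL.Blk.L33.nonempty_equiv hG⟩)

end CL.NP
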